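import Groth.Agent.H17.Topology
import Mathlib.Topology.NoetherianSpace
import Mathlib.Topology.LocallyConstant.Basic
import Mathlib.SetTheory.Cardinal.Finite

/-!
# Connected components and finite open partitions
-/

set_option autoImplicit false
set_option linter.style.haveILetI false
universe u

open TopologicalSpace

namespace Groth.Agent.H12AlgSp.ConnCount

/-- A finite family of disjoint non-empty open sets covering a space. -/
structure IsOpenPartition {α : Type*} [TopologicalSpace α] {ι : Type*} (D : ι → Set α) : Prop where
  isOpen : ∀ e, IsOpen (D e)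
  disj : ∀ e e', e ≠ e' → ∀ x, x ∈ D e → x ∉ D e'
  cover : ∀ x, ∃ e, x ∈ D e
  nonempty : ∀ e, (D e).Nonempty

variable {α : Type u} [TopologicalSpace α]

theorem IsOpenPartition.le_card {n : ℕ} {D : Fin n → Set α} (h : IsOpenPartition D) :
    (n : ℕ∞) ≤ ENat.card (_root_.ConnectedComponents α) := by
  choose g hg using h.cover
  have key : ∀ x e, x ∈ D e → g x = e := fun x e hx => Classical.byContradiction fun hne => h.disj _ _ hne x (hg x) hx
  have hc : IsLocallyConstant g := by
    refine (IsLocallyConstant.iff_exists_open g).2 fun x => ⟨D (g x), h.isOpen _, hg x, fun y hy => key y _ hy⟩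
  let G := hc.continuous.connectedComponentsLift
  have hs : Function.Surjective G := fun e => by
    obtain ⟨x, hx⟩ := h.nonempty e
    exact ⟨ConnectedComponents.mk x, (Continuous.connectedComponentsLift_apply_coe _ _).trans (key x e hx)⟩
  have := ENat.card_le_card_of_injective (Function.injective_surjInv hs)
  simpa using this

theorem exists_openPartition [NoetherianSpace α] {n : ℕ} (hn : 0 < n)
    (h : (n : ℕ∞) ≤ ENat.card (_root_.ConnectedComponents α)) : ∃ D : Fin n → Set α, IsOpenPartition D := by
  classical
  obtain ⟨f⟩ : Nonempty (Fin n ↪ _root_.ConnectedComponents α) := by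
    by_cases hfin : Finite (_root_.ConnectedComponents α)
    · haveI := Fintype.ofFinite (_root_.ConnectedComponents α)
      rw [ENat.card_eq_coe_fintype_card, Nat.cast_le] at h
      exact Function.Embedding.nonempty_of_card_le (by simpa using h)
    · haveI : Infinite (_root_.ConnectedComponents α) := not_finite_iff_infinite.1 hfin
      exact ⟨Fin.valEmbedding.trans (Infinite.natEmbedding _)⟩
  haveI : Nonempty (Fin n) := ⟨⟨0, hn⟩⟩
  let g : _root_.ConnectedComponents α → Fin n := Function.invFun f
  refine ⟨fun e => {x | g (ConnectedComponents.mk x) = e}, ⟨fun e => ?_, fun e e' hne x hx hx' => hne (hx.symm.trans hx'),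
    fun x => ⟨_, rfl⟩, fun e => ?_⟩⟩
  · refine isOpen_iff_forall_mem_open.2 fun x hx => ⟨connectedComponent x, fun y hy => ?_,
      H17.isOpen_connectedComponent x, mem_connectedComponent⟩
    change g _ = e
    rw [ConnectedComponents.coe_eq_coe'.2 hy]
    exact hx
  · obtain ⟨x, hx⟩ := ConnectedComponents.surjective_coe (f e)
    refine ⟨x, ?_⟩
    change g _ = e
    rw [hx]
    exact Function.leftInverse_invFun f.injective e

end Groth.Agent.H12AlgSp.ConnCount
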