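import Mathlib.AlgebraicGeometry.AffineTransitionLimit

/-!
# Saturated partitions descend to a finite stage of an affine limit

For two quasi-compact quasi-separated schemes `R ⇉ V` over a stage of a cofiltered limit of schemes, a
finite partition of `V` over the limit into opens which is invariant under the two maps descends to a stage.
-/

set_option autoImplicit false
set_option backward.isDefEq.respectTransparency false
set_option linter.style.haveILetI false
universe u

open CategoryTheory CategoryTheory.Limits AlgebraicGeometry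


namespace Groth.Agent.H12AlgSp.ConnCount

theorem exists_common {J : Type u} [SmallCategory J] [IsCofiltered J] {j : J} {ι : Type*} [Finite ι]
    (P : ι → ∀ k, (k ⟶ j) → Prop) (hmono : ∀ e k (f : k ⟶ j) k' (g : k' ⟶ k), P e k f → P e k' (g ≫ f))
    (h : ∀ e, ∃ k f, P e k f) : ∃ k f, ∀ e, P e k f := by
  classical
  haveI := Fintype.ofFinite ι
  suffices H : ∀ s : Finset ι, ∃ k f, ∀ e ∈ s, P e k f by
    obtain ⟨k, f, hf⟩ := H Finset.univ
    exact ⟨k, f, fun e => hf e (Finset.mem_univ e)⟩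
  intro s
  induction s using Finset.induction with
  | empty => exact ⟨j, 𝟙 j, fun e he => absurd he (Finset.notMem_empty e)⟩
  | insert a s ha ih =>
    obtain ⟨k, f, hf⟩ := ih
    obtain ⟨k', f', hf'⟩ := h a
    obtain ⟨l, g, g', hg⟩ := IsCofiltered.cospan f f'
    refine ⟨l, g ≫ f, fun e he => ?_⟩
    rcases Finset.mem_insert.1 he with rfl | he
    · rw [hg]; exact hmono _ _ _ _ _ hf'
    · exact hmono _ _ _ _ _ (hf e he)

variable {V R B B' : Scheme.{u}}

/-- The map of fibre products over a common base. -/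
noncomputable def overMap {a : V ⟶ B} {b : R ⟶ B} (r : R ⟶ V) (h : r ≫ a = b) (g : B' ⟶ B) :
    pullback b g ⟶ pullback a g :=
  pullback.map b g a g r (𝟙 _) (𝟙 _) (by rw [h, Category.comp_id]) (by simp)

theorem overMap_fst {a : V ⟶ B} {b : R ⟶ B} (r : R ⟶ V) (h : r ≫ a = b) (g : B' ⟶ B) :
    overMap r h g ≫ pullback.fst a g = pullback.fst b g ≫ r :=
  pullback.lift_fst _ _ _

theorem overMap_snd {a : V ⟶ B} {b : R ⟶ B} (r : R ⟶ V) (h : r ≫ a = b) (g : B' ⟶ B) :
    overMap r h g ≫ pullback.snd a g = pullback.snd b g :=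
  (pullback.lift_snd _ _ _).trans (Category.comp_id _)

/-- Opens form a partition invariant under two maps. -/
structure IsSatPartition {ι : Type*} {P Q : Scheme.{u}} (p₁ p₂ : Q ⟶ P) (C : ι → P.Opens) : Prop where
  disj : ∀ e e' : ι, e ≠ e' → ∀ x, x ∈ C e → x ∉ C e'
  cover : ∀ x, ∃ e, x ∈ C e
  sat : ∀ (e : ι) (z : Q), p₁ z ∈ C e ↔ p₂ z ∈ C e

theorem IsSatPartition.isClopen {ι : Type*} {P Q : Scheme.{u}} {p₁ p₂ : Q ⟶ P} {C : ι → P.Opens}
    (h : IsSatPartition p₁ p₂ C) (e : ι) : IsClopen (C e : Set P) := by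
  refine ⟨⟨?_⟩, (C e).2⟩
  have : (C e : Set P)ᶜ = ⋃ e' ∈ {e' : ι | e' ≠ e}, (C e' : Set P) := by
    ext x
    simp only [Set.mem_compl_iff, SetLike.mem_coe, Set.mem_iUnion, Set.mem_setOf_eq, exists_prop]
    constructor
    · intro hx
      obtain ⟨e', he'⟩ := h.cover x
      exact ⟨e', fun he => hx (he ▸ he'), he'⟩
    · rintro ⟨e', hne, hx⟩ hx'
      exact h.disj e e' (Ne.symm hne) x hx' hx
  rw [this]
  exact isOpen_biUnion fun e' _ => (C e').2

variable {I : Type u} [SmallCategory I] [IsCofiltered I] {D : I ⥤ Scheme.{u}}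

/-- Base change of a diagram of schemes over `B`. -/
@[simps]
noncomputable def bcSys (a : V ⟶ B) (s : D ⟶ (Functor.const I).obj B) : I ⥤ Scheme.{u} where
  obj j := pullback a (s.app j)
  map {j k} f := pullback.map _ _ _ _ (𝟙 V) (D.map f) (𝟙 B) (by simp) (by simpa using (s.naturality f).symm)
  map_id j := by apply pullback.hom_ext <;> simp
  map_comp f g := by apply pullback.hom_ext <;> simp

/-- The base change of a cone. -/
@[simps]
noncomputable def bcLim (a : V ⟶ B) (s : D ⟶ (Functor.const I).obj B) (c : Cone D) (s₀ : c.pt ⟶ B)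
    (hs : ∀ j, c.π.app j ≫ s.app j = s₀) : Cone (bcSys a s) where
  pt := pullback a s₀
  π :=
  { app := fun j => pullback.map _ _ _ _ (𝟙 V) (c.π.app j) (𝟙 B) (by simp) (by simpa using (hs j).symm)
    naturality := fun j k f => by apply pullback.hom_ext <;> simp }

theorem isPullback_bcSys_map (a : V ⟶ B) (s : D ⟶ (Functor.const I).obj B) {j k : I} (f : j ⟶ k) :
    IsPullback ((bcSys a s).map f) (pullback.snd a (s.app j)) (pullback.snd a (s.app k)) (D.map f) := by
  refine IsPullback.of_right (h₁₂ := pullback.fst a (s.app k)) (h₂₂ := s.app k) (v₁₃ := a) ?_ (by simp)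
    (IsPullback.of_hasPullback a (s.app k))
  have e : D.map f ≫ s.app k = s.app j := by simpa using s.naturality f
  simpa [e] using IsPullback.of_hasPullback a (s.app j)

/-- Base change commutes with cofiltered limits. -/
noncomputable def isLimitBcLim (a : V ⟶ B) (s : D ⟶ (Functor.const I).obj B) {c : Cone D} (hc : IsLimit c)
    (s₀ : c.pt ⟶ B) (hs : ∀ j, c.π.app j ≫ s.app j = s₀) : IsLimit (bcLim a s c s₀ hs) := by
  haveI : IsConnected I := IsCofiltered.isConnected I
  exact isLimitOfIsPullbackOfIsConnected { app := fun j => pullback.snd a (s.app j) } (bcLim a s c s₀ hs) c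
    { hom := pullback.snd a s₀ }
    (fun j => IsPullback.of_right (h₁₂ := pullback.fst a (s.app j)) (h₂₂ := s.app j) (v₁₃ := a)
      (by simpa [hs j] using IsPullback.of_hasPullback a s₀) (by simp) (IsPullback.of_hasPullback a (s.app j))) hc

/-- A saturated finite partition over the limit comes from a stage. -/
theorem exists_stage_partition [∀ (i j : I) (φ : i ⟶ j), IsAffineHom (D.map φ)] {c : Cone D} (hc : IsLimit c)
    (s : D ⟶ (Functor.const I).obj B) [∀ j, QuasiCompact (s.app j)] [∀ j, QuasiSeparated (s.app j)] [CompactSpace B]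
    [QuasiSeparatedSpace B] (s₀ : c.pt ⟶ B) [QuasiCompact s₀] (hs : ∀ j, c.π.app j ≫ s.app j = s₀)
    (a : V ⟶ B) (b : R ⟶ B) (r₁ r₂ : R ⟶ V) (h₁ : r₁ ≫ a = b) (h₂ : r₂ ≫ a = b)
    [QuasiCompact a] [QuasiSeparated a] [QuasiCompact b] [QuasiSeparated b] {ι : Type*} [Finite ι]
    (C : ι → (pullback a s₀).Opens)
    (hC : IsSatPartition (overMap r₁ h₁ s₀) (overMap r₂ h₂ s₀) C) :
    ∃ (j : I) (C' : ι → (pullback a (s.app j)).Opens),
      IsSatPartition (overMap r₁ h₁ (s.app j)) (overMap r₂ h₂ (s.app j)) C' ∧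
        ∀ e, (bcLim a s c s₀ hs).π.app j ⁻¹ᵁ C' e = C e := by
  classical
  haveI : CompactSpace V := QuasiCompact.compactSpace_of_compactSpace a
  haveI : QuasiSeparatedSpace V := quasiSeparatedSpace_of_quasiSeparated a
  haveI : CompactSpace R := QuasiCompact.compactSpace_of_compactSpace b
  haveI : QuasiSeparatedSpace R := quasiSeparatedSpace_of_quasiSeparated b
  let E := bcSys a s
  let d := bcLim a s c s₀ hs
  have hd : IsLimit d := isLimitBcLim a s hc s₀ hs
  haveI : ∀ {j k : I} (f : j ⟶ k), IsAffineHom (E.map f) := fun f =>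
    MorphismProperty.of_isPullback (P := @IsAffineHom) (isPullback_bcSys_map a s f).flip inferInstance
  haveI : CompactSpace d.pt := inferInstanceAs (CompactSpace ↥(pullback a s₀))
  let F := bcSys b s
  let f := bcLim b s c s₀ hs
  have hf : IsLimit f := isLimitBcLim b s hc s₀ hs
  haveI : ∀ {j k : I} (g : j ⟶ k), IsAffineHom (F.map g) := fun g =>
    MorphismProperty.of_isPullback (P := @IsAffineHom) (isPullback_bcSys_map b s g).flip inferInstance
  choose k W₀ hW₀ hW₀e using fun e => exists_preimage_eq E d hd (C e) ((hC.isClopen e).isClosed.isCompact)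
  haveI : Finite (Set.range k) := Set.finite_range k
  obtain ⟨j₀, hj₀⟩ := IsCofiltered.inf_objs_exists (Set.finite_range k).toFinset
  let g₀ : ∀ e, j₀ ⟶ k e := fun e => (hj₀ ((Set.finite_range k).mem_toFinset.2 ⟨e, rfl⟩)).some
  let W := fun e => E.map (g₀ e) ⁻¹ᵁ W₀ e
  have hW : ∀ e, IsCompact (W e : Set (E.obj j₀)) := fun e =>
    QuasiCompact.isCompact_preimage (f := E.map (g₀ e)) _ (W₀ e).2 (hW₀ e)
  have hWe : ∀ e, d.π.app j₀ ⁻¹ᵁ W e = C e := fun e => by
    rw [← Scheme.Hom.comp_preimage, d.w]; exact hW₀e e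
  have hmap : ∀ (r : R ⟶ V) (h : r ≫ a = b) {k k' : I} (g : k' ⟶ k),
      F.map g ≫ overMap r h (s.app k) = overMap r h (s.app k') ≫ E.map g := by
    intro r h k k' g
    apply pullback.hom_ext <;> simp [E, F, overMap]
  have hmapπ : ∀ (r : R ⟶ V) (h : r ≫ a = b) (k : I),
      f.π.app k ≫ overMap r h (s.app k) = overMap r h s₀ ≫ d.π.app k := by
    intro r h k
    apply pullback.hom_ext <;> simp [d, f, overMap]
  have mem : ∀ {P Q : Scheme.{u}} (m : P ⟶ Q) (U : Q.Opens) (x : P), x ∈ m ⁻¹ᵁ U ↔ m x ∈ U :=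
    fun _ _ _ => Iff.rfl
  -- the three kinds of conditions
  obtain ⟨j₁, g₁, hg₁⟩ := exists_common (j := j₀) (ι := (ι × ι) ⊕ (ι ⊕ PUnit.{1}))
    (fun p k (g : k ⟶ j₀) => match p with
      | .inl (e, e') => e ≠ e' → E.map g ⁻¹ᵁ (W e ⊓ W e') = ⊥
      | .inr (.inl e) => F.map g ⁻¹ᵁ (overMap r₁ h₁ (s.app j₀) ⁻¹ᵁ W e) =
          F.map g ⁻¹ᵁ (overMap r₂ h₂ (s.app j₀) ⁻¹ᵁ W e)
      | .inr (.inr _) => E.map g ⁻¹ᵁ (⨆ e, W e) = ⊤)
    (by
      rintro (⟨e, e'⟩ | e | _) k g k' g' h
      · intro hne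
        rw [Functor.map_comp, Scheme.Hom.comp_preimage, h hne]
        exact Scheme.Hom.preimage_bot _
      · simp only [Functor.map_comp, Scheme.Hom.comp_preimage] at h ⊢
        rw [h]
      · simp only [Functor.map_comp, Scheme.Hom.comp_preimage] at h ⊢
        rw [h]
        exact Scheme.Hom.preimage_top _)
    (by
      haveI : CompactSpace (E.obj j₀) := QuasiCompact.compactSpace_of_compactSpace (pullback.fst a (s.app j₀))
      haveI : QuasiSeparatedSpace (E.obj j₀) := quasiSeparatedSpace_of_quasiSeparated (pullback.fst a (s.app j₀))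
      have hU : IsCompact ((⨆ e, W e : (E.obj j₀).Opens) : Set (E.obj j₀)) := by
        rw [TopologicalSpace.Opens.coe_iSup]; exact isCompact_iUnion hW
      rintro (⟨e, e'⟩ | e | _)
      · by_cases hne : e = e'
        · exact ⟨j₀, 𝟙 j₀, fun h => absurd hne h⟩
        have hi : IsCompact ((W e ⊓ W e' : (E.obj j₀).Opens) : Set (E.obj j₀)) :=
          QuasiSeparatedSpace.inter_isCompact _ _ (W e).2 (hW e) (W e').2 (hW e')
        obtain ⟨k, g, hk⟩ := exists_map_preimage_eq_map_preimage E d hd (U := W e ⊓ W e') (V := ⊥) hi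
          (by simp) (by
            ext x
            simp only [SetLike.mem_coe, mem]
            refine ⟨fun hx => ?_, fun hx => hx.elim⟩
            exact (hC.disj e e' hne x ((hWe e).le hx.1) ((hWe e').le hx.2)).elim)
        exact ⟨k, g, fun _ => hk.trans (Scheme.Hom.preimage_bot _)⟩
      · haveI : QuasiCompact (overMap r₁ h₁ (s.app j₀)) := by
          haveI : QuasiCompact (overMap r₁ h₁ (s.app j₀) ≫ pullback.snd a _) := by
            rw [overMap, pullback.lift_snd, Category.comp_id]; infer_instance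
          exact QuasiCompact.of_comp _ (pullback.snd a (s.app j₀))
        haveI : QuasiCompact (overMap r₂ h₂ (s.app j₀)) := by
          haveI : QuasiCompact (overMap r₂ h₂ (s.app j₀) ≫ pullback.snd a _) := by
            rw [overMap, pullback.lift_snd, Category.comp_id]; infer_instance
          exact QuasiCompact.of_comp _ (pullback.snd a (s.app j₀))
        exact exists_map_preimage_eq_map_preimage F f hf
          (QuasiCompact.isCompact_preimage (f := overMap r₁ h₁ (s.app j₀)) _ (W e).2 (hW e))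
          (QuasiCompact.isCompact_preimage (f := overMap r₂ h₂ (s.app j₀)) _ (W e).2 (hW e)) (by
            have e' : ∀ (r : R ⟶ V) (h : r ≫ a = b),
                f.π.app j₀ ⁻¹ᵁ (overMap r h (s.app j₀) ⁻¹ᵁ W e) = overMap r h s₀ ⁻¹ᵁ C e := fun r h => by
              rw [← hWe e]
              exact (Scheme.Hom.comp_preimage _ _ _).symm.trans
                ((congrArg (fun m => m ⁻¹ᵁ W e) (hmapπ r h j₀)).trans (Scheme.Hom.comp_preimage _ _ _))
            rw [e' r₁ h₁, e' r₂ h₂]
            exact TopologicalSpace.Opens.ext (Set.ext fun z => hC.sat e z))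
      · obtain ⟨k, g, hk⟩ := exists_map_preimage_eq_map_preimage E d hd (U := ⨆ e, W e) (V := ⊤) hU
          isCompact_univ (by
            rw [Scheme.Hom.preimage_top, Scheme.Hom.preimage_iSup]
            simp only [hWe]
            exact eq_top_iff.2 fun x _ => TopologicalSpace.Opens.mem_iSup.2 (hC.cover x))
        exact ⟨k, g, hk.trans (Scheme.Hom.preimage_top _)⟩)
  refine ⟨j₁, fun e => E.map g₁ ⁻¹ᵁ W e, ⟨fun e e' hne x hx hx' => ?_, fun x => ?_, fun e z => ?_⟩, fun e => ?_⟩
  · exact ((hg₁ (.inl (e, e')) hne).le (show x ∈ E.map g₁ ⁻¹ᵁ (W e ⊓ W e') from ⟨hx, hx'⟩)).elim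
  · have : x ∈ E.map g₁ ⁻¹ᵁ ⨆ e, W e := (hg₁ (.inr (.inr ⟨⟩))).ge trivial
    rw [Scheme.Hom.preimage_iSup] at this
    exact TopologicalSpace.Opens.mem_iSup.1 this
  · have := hg₁ (.inr (.inl e))
    simp only [← Scheme.Hom.comp_preimage, hmap] at this
    simp only [Scheme.Hom.comp_preimage] at this
    exact ⟨fun h => this.le h, fun h => this.ge h⟩
  · change (d.π.app j₁) ⁻¹ᵁ (E.map g₁ ⁻¹ᵁ W e) = C e
    rw [← Scheme.Hom.comp_preimage, d.w]
    exact hWe e

end Groth.Agent.H12AlgSp.ConnCount
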