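import Groth.Agent.H12AlgSp.ConnCount.Descend
import Groth.Agent.S1366

/-!
# Saturated partitions of the closed fibre extend over a henselian base
-/

set_option autoImplicit false
set_option backward.isDefEq.respectTransparency false
set_option linter.style.haveILetI false
universe u

open CategoryTheory CategoryTheory.Limits AlgebraicGeometry

namespace Groth.Agent.H12AlgSp.ConnCount

variable {H κ : Type u} [CommRing H] [Field κ] (π : H →+* κ)

/-- A non-empty closed subset of a proper scheme over a henselian pair meets the closed fibre. -/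
theorem exists_mem_range_fst (hπ : Function.Surjective π) [HenselianRing H (RingHom.ker π)] {V : Scheme.{u}}
    (a : V ⟶ Spec (CommRingCat.of H)) [IsProper a] {Z : Set V} (hZ : IsClosed Z) (hne : Z.Nonempty) :
    ∃ x ∈ Z, x ∈ Set.range (pullback.fst a (Spec.map (CommRingCat.ofHom π))) := by
  have hC : IsClosed (a '' Z) := a.isClosedMap _ hZ
  obtain ⟨p, hp⟩ := hne.image a
  let p' : PrimeSpectrum H := p
  obtain ⟨m, hm, hle⟩ := Ideal.exists_le_maximal p'.asIdeal p'.2.ne_top
  let q : PrimeSpectrum H := ⟨m, hm.isPrime⟩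
  have hq : q ∈ a '' Z := ((PrimeSpectrum.le_iff_specializes p' q).1 hle).mem_closed hC hp
  obtain ⟨x, hxZ, hxq⟩ := hq
  have hkm : RingHom.ker π ≤ m := (HenselianRing.jac (R := H) (I := RingHom.ker π)).trans (sInf_le ⟨bot_le, hm⟩)
  obtain ⟨q₀, hq₀⟩ : q ∈ Set.range (PrimeSpectrum.comap π) := by
    rw [range_comap_of_surjective _ _ hπ]
    exact hkm
  obtain ⟨x₀, hx₀, -⟩ := Scheme.Pullback.exists_preimage_pullback (f := a)
    (g := Spec.map (CommRingCat.ofHom π)) x q₀ (hxq.trans hq₀.symm)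
  exact ⟨x, hxZ, x₀, hx₀⟩

/-- A clopen subset of the closed fibre extends to a clopen subset. -/
theorem exists_clopen_lift (hπ : Function.Surjective π) [HenselianRing H (RingHom.ker π)] {V : Scheme.{u}}
    (a : V ⟶ Spec (CommRingCat.of H)) [IsProper a] (C : (pullback a (Spec.map (CommRingCat.ofHom π))).Opens)
    (hC : IsClosed (C : Set ↥(pullback a (Spec.map (CommRingCat.ofHom π))))) :
    ∃ W : V.Opens, IsClosed (W : Set V) ∧ pullback.fst a (Spec.map (CommRingCat.ofHom π)) ⁻¹ᵁ W = C := by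
  let e : CommRingCat.of (H ⧸ RingHom.ker π) ≅ CommRingCat.of κ :=
    (RingHom.quotientKerEquivOfSurjective hπ).toCommRingCatIso
  have he : CommRingCat.ofHom (Ideal.Quotient.mk (RingHom.ker π)) ≫ e.hom = CommRingCat.ofHom π :=
    CommRingCat.hom_ext (RingHom.ext fun _ => rfl)
  let μ : pullback a (Spec.map (CommRingCat.ofHom (Ideal.Quotient.mk (RingHom.ker π)))) ⟶
      pullback a (Spec.map (CommRingCat.ofHom π)) :=
    pullback.map _ _ _ _ (𝟙 V) (Spec.map e.inv) (𝟙 _) (by simp) (by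
      rw [Category.comp_id, ← Spec.map_comp, ← he, Category.assoc, Iso.hom_inv_id, Category.comp_id])
  haveI : IsIso μ := pullback.map_isIso _ _ _ _ _ _ _ _ _
  let Y := μ ⁻¹ᵁ C
  have hYc : IsClosed (Y : Set ↥(pullback a (Spec.map (CommRingCat.ofHom (Ideal.Quotient.mk (RingHom.ker π)))))) :=
    hC.preimage μ.continuous
  haveI : IsClosedImmersion Y.ι := IsClosedImmersion.of_isPreimmersion Y.ι (by rwa [Scheme.Opens.range_ι])
  obtain ⟨W, hW, -, hWY⟩ := Groth.Agent.S1366.result (RingHom.ker π) a Y hYc inferInstance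
  refine ⟨W, hW, ?_⟩
  have hμf : μ ≫ pullback.fst a _ = pullback.fst a _ := (pullback.lift_fst _ _ _).trans (Category.comp_id _)
  refine TopologicalSpace.Opens.ext (Set.ext fun z => ?_)
  obtain ⟨z, rfl⟩ := μ.surjective z
  change pullback.fst a _ (μ z) ∈ W ↔ μ z ∈ C
  rw [← Scheme.Hom.comp_apply, hμf]
  exact ⟨fun h => hWY.le h, fun h => hWY.ge h⟩

/-- A saturated finite partition of the closed fibre extends. -/
theorem exists_partition_lift (hπ : Function.Surjective π) [HenselianRing H (RingHom.ker π)] {V R : Scheme.{u}}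
    (a : V ⟶ Spec (CommRingCat.of H)) (b : R ⟶ Spec (CommRingCat.of H)) [IsProper a] [IsProper b]
    (r₁ r₂ : R ⟶ V) (h₁ : r₁ ≫ a = b) (h₂ : r₂ ≫ a = b) {ι : Type*} [Finite ι]
    (C : ι → (pullback a (Spec.map (CommRingCat.ofHom π))).Opens)
    (hC : IsSatPartition (overMap r₁ h₁ _) (overMap r₂ h₂ _) C) :
    ∃ C' : ι → V.Opens, IsSatPartition r₁ r₂ C' ∧
      ∀ e, pullback.fst a (Spec.map (CommRingCat.ofHom π)) ⁻¹ᵁ C' e = C e := by
  choose W hW hWC using fun e => exists_clopen_lift π hπ a (C e) (hC.isClopen e).isClosed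
  have hr : ∀ (r : R ⟶ V) (h : r ≫ a = b) (z : ↥(pullback b (Spec.map (CommRingCat.ofHom π)))) (e : ι),
      r (pullback.fst b _ z) ∈ W e ↔ overMap r h _ z ∈ C e := fun r h z e => by
    rw [← Scheme.Hom.comp_apply, show pullback.fst b _ ≫ r = overMap r h _ ≫ pullback.fst a _ from
      (pullback.lift_fst _ _ _).symm, Scheme.Hom.comp_apply]
    exact ⟨fun h' => (hWC e).le h', fun h' => (hWC e).ge h'⟩
  refine ⟨W, ⟨fun e e' hne x hx hx' => ?_, fun x => ?_, fun e z => ?_⟩, hWC⟩
  · obtain ⟨-, ⟨hy, hy'⟩, y, rfl⟩ := exists_mem_range_fst π hπ a ((hW e).inter (hW e')) ⟨x, hx, hx'⟩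
    exact hC.disj e e' hne y ((hWC e).le hy) ((hWC e').le hy')
  · by_contra hx
    obtain ⟨-, hy, y, rfl⟩ := exists_mem_range_fst π hπ a
      (Z := {v | ∀ e, v ∉ W e}) (by
        rw [show {v | ∀ e, v ∉ W e} = ⋂ e, ((W e : Set V))ᶜ from by ext; simp]
        exact isClosed_iInter fun e => (W e).2.isClosed_compl)
      ⟨x, fun e he => hx ⟨e, he⟩⟩
    obtain ⟨e, he⟩ := hC.cover y
    exact hy e ((hWC e).ge he)
  · have key : ∀ (p q : R ⟶ V) (hp : p ≫ a = b) (hq : q ≫ a = b),
        (∀ y, overMap p hp _ y ∈ C e → overMap q hq _ y ∈ C e) → p z ∈ W e → q z ∈ W e := by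
      intro p q hp hq hsat hpz
      by_contra hqz
      obtain ⟨-, ⟨hy, hy'⟩, y, rfl⟩ := exists_mem_range_fst π hπ b
        (((hW e).preimage p.continuous).inter ((W e).2.isClosed_compl.preimage q.continuous)) ⟨z, hpz, hqz⟩
      exact hy' ((hr q hq y e).2 (hsat y ((hr p hp y e).1 hy)))
    exact ⟨key r₁ r₂ h₁ h₂ (fun y => (hC.sat e y).1), key r₂ r₁ h₂ h₁ (fun y => (hC.sat e y).2)⟩

end Groth.Agent.H12AlgSp.ConnCount
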