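import Groth.Agent.H12AlgSp.ConnCount.Scheme
import Groth.Agent.H12AlgSp.ConnCount.Cover
import Groth.Agent.H12AlgSp.ConnCount.Count
import Groth.Agent.H12AlgSp.GeomLift
import Groth.Agent.H12AlgSp.Univ

/-!
# The number of connected components of geometric fibres is lower semicontinuous
-/

set_option autoImplicit false
set_option backward.isDefEq.respectTransparency false
set_option linter.style.haveILetI false
set_option maxHeartbeats 1000000
universe u

open CategoryTheory CategoryTheory.Limits AlgebraicGeometry Opposite TopologicalSpace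
open AlgSp Groth.Agent.H12AlgSp Groth.Agent.H13AlgSp

namespace Groth.Agent.H12AlgSp.ConnCount

variable {S : Scheme.{u}}

/-- Base change of `T ⟶ Spec A` to an `A`-algebra, over `S`. -/
noncomputable def bcOver {A : Type u} [CommRing A] {sA : Spec (CommRingCat.of A) ⟶ S} {W : Over S}
    (k : W ⟶ Over.mk sA) (B : Type u) [CommRing B] [Algebra A B] : Over S :=
  Over.mk (pullback.snd k.left (Spec.map (CommRingCat.ofHom (algebraMap A B))) ≫
    Spec.map (CommRingCat.ofHom (algebraMap A B)) ≫ sA)

theorem isPullback_bcOver {A : Type u} [CommRing A] {sA : Spec (CommRingCat.of A) ⟶ S} {W : Over S}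
    (k : W ⟶ Over.mk sA) (B : Type u) [CommRing B] [Algebra A B] :
    ∃ (p : bcOver k B ⟶ W) (q : bcOver k B ⟶ Over.mk (Spec.map (CommRingCat.ofHom (algebraMap A B)) ≫ sA)),
      IsPullback p q k (Over.homMk (Spec.map (CommRingCat.ofHom (algebraMap A B))) rfl) ∧
        p.left = pullback.fst _ _ ∧ q.left = pullback.snd _ _ := by
  refine ⟨Over.homMk (pullback.fst _ _) ?_, Over.homMk (pullback.snd _ _) rfl, ?_, rfl, rfl⟩
  · change pullback.fst k.left _ ≫ W.hom = pullback.snd k.left _ ≫ _ ≫ sA
    rw [← Over.w k, pullback.condition_assoc]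
    rfl
  · exact IsPullback.of_map (Over.forget S) (Over.OverMorphism.ext pullback.condition) (IsPullback.of_hasPullback _ _)

theorem le_card_near {X Y : Sp S} (hX : IsAlgSpace X) (hY : IsAlgSpace Y) {f : X ⟶ Y} (hp : IsProperMor f)
    (hfl : LocP @Flat f) (hfp : LocP @LocallyOfFinitePresentation f) (y : Points Y) {n : ℕ} (hn : 0 < n)
    (h : ∀ (k : FieldPt Y), Points.mk k = y → k.IsGeometric → ∀ (Xk : Sp S) (fst : Xk ⟶ X)
      (snd : Xk ⟶ (yon S).obj k.pt), IsPullback fst snd f k.toHom →
      (n : ℕ∞) ≤ ENat.card (_root_.ConnectedComponents (Points Xk))) :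
    ∃ U : Set (Points Y), IsOpen U ∧ y ∈ U ∧ ∀ (k : FieldPt Y), Points.mk k ∈ U → k.IsGeometric →
      ∀ (Xk : Sp S) (fst : Xk ⟶ X) (snd : Xk ⟶ (yon S).obj k.pt), IsPullback fst snd f k.toHom →
      (n : ℕ∞) ≤ ENat.card (_root_.ConnectedComponents (Points Xk)) := by
  classical
  -- an affine chart
  obtain ⟨ι₀, T₀, a₀, hT₀, ha₀, -, hcov⟩ := exists_affine_family_over hY
  obtain ⟨i₀, t₀, ht₀⟩ := hcov y
  haveI := hT₀ i₀
  let A : Type u := ↑Γ((T₀ i₀).left, ⊤)
  let sA : Spec (CommRingCat.of A) ⟶ S := (T₀ i₀).left.isoSpec.inv ≫ (T₀ i₀).hom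
  let T : Over S := Over.mk sA
  let eT : T ⟶ T₀ i₀ := Over.homMk (T₀ i₀).left.isoSpec.inv rfl
  haveI : Etale eT.left := inferInstanceAs (Etale (T₀ i₀).left.isoSpec.inv)
  let a : (yon S).obj T ⟶ Y := (yon S).map eT ≫ a₀ i₀
  have ha : RepWith @Etale a := repWith_comp ((repWith_yon_map_iff _ _).2 ‹_›) (ha₀ i₀)
  let p : PrimeSpectrum A := (T₀ i₀).left.isoSpec.hom t₀
  haveI : IsAffine T.left := inferInstanceAs (IsAffine (Spec _))
  -- the base change and its cover
  have sqX := IsPullback.of_hasPullback f a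
  have hXT : IsAlgSpace (pullback f a) := isAlgSpace_pullback hY.diag hX (IsAlgSpace.yon_obj T) f a
  let q := pullback.snd f a
  have hq : IsProperMor q := isProperMor_of_isPullback hX hY (IsAlgSpace.yon_obj T) sqX hp
  obtain ⟨V, m, kV, hmk, hkV, hm, hms⟩ := exists_finite_cover hXT q hq
  obtain ⟨R, r₂, r₁', sqR⟩ := hXT.representable_from_yon m m
  obtain ⟨r₁, rfl⟩ := (yon S).map_surjective r₁'
  haveI : IsFinite r₂.left := hm.property m ((yon S).map r₁) r₂ sqR
  let a' : V.left ⟶ Spec (CommRingCat.of A) := kV.left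
  let b' : R.left ⟶ Spec (CommRingCat.of A) := r₂.left ≫ a'
  haveI : IsProper a' := hkV
  haveI : IsProper b' := inferInstanceAs (IsProper (r₂.left ≫ a'))
  have hrk : r₁ ≫ kV = r₂ ≫ kV := (yon S).map_injective (by
    rw [Functor.map_comp, Functor.map_comp, ← hmk, ← Category.assoc, sqR.w, Category.assoc])
  have h₁ : r₁.left ≫ a' = b' := congrArg CommaMorphism.left hrk
  have h₂ : r₂.left ≫ a' = b' := rfl
  obtain ⟨K, _, hK, _, hker, hext⟩ := exists_etale_nbhd_partition p
  -- the geometric fibre over `p`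
  let gK : Over.mk (Spec.map (CommRingCat.ofHom (algebraMap A K)) ≫ sA) ⟶ T :=
    Over.homMk (Spec.map (CommRingCat.ofHom (algebraMap A K))) rfl
  let pk : FieldPt Y := fieldPtOfHom ((yon S).map gK ≫ a)
  have hgK : gK.left (IsLocalRing.closedPoint K) = p := PrimeSpectrum.ext (by
    change Ideal.comap (algebraMap A K) (IsLocalRing.maximalIdeal K) = _
    rw [IsLocalRing.maximalIdeal_eq_bot]; exact hker)
  have hat : Points.ofPt a p = y := by
    rw [ofPt_map, ← ht₀]
    exact congrArg (Points.ofPt (a₀ i₀)) (Scheme.hom_inv_apply (T₀ i₀).left.isoSpec t₀)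
  have hpk : Points.mk pk = y := by
    rw [← Points.ofPt_toHom pk, toHom_fieldPtOfHom, ofPt_map, ← hat]
    exact congrArg (Points.ofPt a) hgK
  obtain ⟨pV, qV, sqV, hpV, hqV⟩ := isPullback_bcOver kV K
  let Xk := pullback q ((yon S).map gK)
  have sqk := IsPullback.of_hasPullback q ((yon S).map gK)
  have hXk : IsAlgSpace Xk := isAlgSpace_pullback (IsAlgSpace.yon_obj T).diag hXT (IsAlgSpace.yon_obj _) _ _
  have eV : ((yon S).map pV ≫ m) ≫ q = (yon S).map qV ≫ (yon S).map gK := by
    rw [Category.assoc, hmk, ← Functor.map_comp, ← Functor.map_comp, sqV.w]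
  let μk := sqk.lift _ _ eV
  have sqμk : IsPullback ((yon S).map pV) μk m (pullback.fst q ((yon S).map gK)) :=
    IsPullback.of_bot (by rw [sqk.lift_snd, hmk]; exact sqV.map _) (sqk.lift_fst _ _ eV).symm sqk
  have hμks : Function.Surjective (Points.map μk) := fun x => by
    obtain ⟨v, hv⟩ := hms (Points.map (pullback.fst q _) x)
    obtain ⟨w, -, hw⟩ := exists_point_of_isPullback sqμk v x hv
    exact ⟨w, hw⟩
  haveI : NoetherianSpace (bcOver kV K).left := by
    change NoetherianSpace ↥(pullback a' (Spec.map (CommRingCat.ofHom (algebraMap A K))))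
    haveI : IsLocallyNoetherian (pullback a' (Spec.map (CommRingCat.ofHom (algebraMap A K)))) :=
      LocallyOfFiniteType.isLocallyNoetherian (pullback.snd a' _)
    haveI : CompactSpace ↥(pullback a' (Spec.map (CommRingCat.ofHom (algebraMap A K)))) :=
      QuasiCompact.compactSpace_of_compactSpace (pullback.snd a' _)
    haveI : IsNoetherian (pullback a' (Spec.map (CommRingCat.ofHom (algebraMap A K)))) := {}
    infer_instance
  haveI : NoetherianSpace (Points Xk) := noetherianSpace_of_surjective
    (Points.map μk ∘ Points.schemeHomeo (bcOver kV K))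
    ((Points.continuous_map μk).comp (Points.schemeHomeo _).continuous)
    (hμks.comp (Points.schemeHomeo _).surjective)
  obtain ⟨D, hD⟩ := exists_openPartition hn (h pk hpk hK Xk (pullback.fst q _ ≫ pullback.fst f a)
    (pullback.snd q _) (by rw [toHom_fieldPtOfHom]; exact sqk.paste_horiz sqX))
  -- the partition of the cover
  let C : Fin n → (pullback a' (Spec.map (CommRingCat.ofHom (algebraMap A K)))).Opens := fun e =>
    ⟨Points.ofPt μk ⁻¹' D e, (hD.isOpen e).preimage (Points.continuous_ofPt μk)⟩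
  have hC : IsSatPartition (overMap r₁.left h₁ _) (overMap r₂.left h₂ _) C := by
    refine ⟨fun e e' hne x => hD.disj e e' hne _, fun x => hD.cover _, fun e z => ?_⟩
    let Rk := bcOver (r₂ ≫ kV) K
    let s₁ : Rk ⟶ bcOver kV K := Over.homMk (overMap r₁.left h₁ _) (by
      change overMap _ _ _ ≫ pullback.snd _ _ ≫ _ = pullback.snd _ _ ≫ _
      rw [overMap, pullback.lift_snd_assoc, Category.comp_id])
    let s₂ : Rk ⟶ bcOver kV K := Over.homMk (overMap r₂.left h₂ _) (by
      change overMap _ _ _ ≫ pullback.snd _ _ ≫ _ = pullback.snd _ _ ≫ _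
      rw [overMap, pullback.lift_snd_assoc, Category.comp_id])
    have key : (yon S).map s₁ ≫ μk = (yon S).map s₂ ≫ μk := by
      let o : Rk ⟶ R := Over.homMk (pullback.fst _ _) (by
        change pullback.fst (r₂.left ≫ kV.left) _ ≫ R.hom = pullback.snd _ _ ≫ _ ≫ sA
        rw [← Over.w (r₂ ≫ kV), Over.comp_left, ← pullback.condition_assoc]
        rfl)
      have e₁ : s₁ ≫ pV = o ≫ r₁ := Over.OverMorphism.ext (by
        simp only [Over.comp_left, hpV]
        exact overMap_fst _ h₁ _)
      have e₂ : s₂ ≫ pV = o ≫ r₂ := Over.OverMorphism.ext (by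
        simp only [Over.comp_left, hpV]
        exact overMap_fst _ h₂ _)
      apply sqk.hom_ext
      · simp only [Category.assoc, sqk.lift_fst, μk]
        rw [← Functor.map_comp_assoc, e₁, ← Functor.map_comp_assoc, e₂, Functor.map_comp, Functor.map_comp,
          Category.assoc, Category.assoc, sqR.w]
      · simp only [Category.assoc, sqk.lift_snd, μk]
        rw [← Functor.map_comp, ← Functor.map_comp]
        refine congrArg (yon S).map (Over.OverMorphism.ext ?_)
        simp only [Over.comp_left, hqV]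
        exact (overMap_snd _ h₁ _).trans (overMap_snd _ h₂ _).symm
    change Points.ofPt μk (s₁.left z) ∈ D e ↔ Points.ofPt μk (s₂.left z) ∈ D e
    rw [← ofPt_map, ← ofPt_map, key]
  obtain ⟨B, _, _, _, σ, C', hC', hpre⟩ := hext a' b' r₁.left r₂.left h₁ h₂ C hC
  -- the etale neighbourhood
  let gB : Over.mk (Spec.map (CommRingCat.ofHom (algebraMap A B)) ≫ sA) ⟶ T :=
    Over.homMk (Spec.map (CommRingCat.ofHom (algebraMap A B))) rfl
  haveI : Etale gB.left := (HasRingHomProperty.Spec_iff (P := @Etale)).2 (RingHom.etale_algebraMap.2 inferInstance)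
  let aB := (yon S).map gB ≫ a
  have haB : RepWith @Etale aB := repWith_comp ((repWith_yon_map_iff _ _).2 ‹_›) ha
  obtain ⟨pB, qB, sqB, hpB, hqB⟩ := isPullback_bcOver kV B
  let XB := pullback q ((yon S).map gB)
  have sqXB := IsPullback.of_hasPullback q ((yon S).map gB)
  have hXB : IsAlgSpace XB := isAlgSpace_pullback (IsAlgSpace.yon_obj T).diag hXT (IsAlgSpace.yon_obj _) _ _
  have eB : ((yon S).map pB ≫ m) ≫ q = (yon S).map qB ≫ (yon S).map gB := by
    rw [Category.assoc, hmk, ← Functor.map_comp, ← Functor.map_comp, sqB.w]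
  let μB := sqXB.lift _ _ eB
  have sqμB : IsPullback ((yon S).map pB) μB m (pullback.fst q ((yon S).map gB)) :=
    IsPullback.of_bot (by rw [sqXB.lift_snd, hmk]; exact sqB.map _) (sqXB.lift_fst _ _ eB).symm sqXB
  have hμB : RepWith @IsFinite μB := repWith_of_isPullback sqμB hm
  have hμBs : Function.Surjective (Points.ofPt μB) := fun x => by
    obtain ⟨v, hv⟩ := hms (Points.map (pullback.fst q _) x)
    obtain ⟨w, -, hw⟩ := exists_point_of_isPullback sqμB v x hv
    obtain ⟨w, rfl⟩ := (Points.schemeEquiv _).surjective w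
    exact ⟨w, (Points.ofPt_eq_map_ofScheme μB w).trans hw⟩
  have hμBc : IsClosedMap (Points.ofPt μB) := by
    rw [show Points.ofPt μB = Points.map μB ∘ Points.schemeHomeo _ from
      funext fun v => Points.ofPt_eq_map_ofScheme μB v]
    exact (isClosedMap_map_of_repWith (fun _ _ j (_ : IsFinite j) => inferInstanceAs (UniversallyClosed j))
      hμB).comp (Points.schemeHomeo _).isClosedMap
  have hsatB : ∀ e v v', v ∈ C' e → Points.ofPt μB v = Points.ofPt μB v' → v' ∈ C' e := by
    intro e v v' hv hvv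
    obtain ⟨R', s₂, s₁', sqR'⟩ := hXB.representable_from_yon μB μB
    obtain ⟨s₁, rfl⟩ := (yon S).map_surjective s₁'
    obtain ⟨w, hw₁, hw₂⟩ := exists_point_of_isPullback sqR' (Points.ofScheme _ v) (Points.ofScheme _ v')
      (by rw [← Points.ofPt_eq_map_ofScheme, ← Points.ofPt_eq_map_ofScheme]; exact hvv)
    obtain ⟨w, rfl⟩ := (Points.schemeEquiv R').surjective w
    have hs : ∀ (s : R' ⟶ bcOver kV B) (v : (bcOver kV B).left),
        Points.map ((yon S).map s) (Points.ofScheme R' w) = Points.ofScheme _ v → s.left w = v := fun s v hsv => by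
      apply (Points.schemeEquiv _).injective
      change Points.ofScheme _ (s.left w) = Points.ofScheme _ v
      rw [← hsv, ← Points.ofPt_eq_map_ofScheme, ← Category.comp_id ((yon S).map s), ofPt_map]
    have e₁ := hs s₁ v hw₁
    have e₂ := hs s₂ v' hw₂
    let o := sqR.lift ((yon S).map (s₁ ≫ pB)) ((yon S).map (s₂ ≫ pB)) (by
      rw [Functor.map_comp, Functor.map_comp, Category.assoc, Category.assoc, sqμB.w, ← Category.assoc, sqR'.w,
        Category.assoc])
    obtain ⟨o', ho'⟩ := (yon S).map_surjective o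
    have ho₁ : o' ≫ r₁ = s₁ ≫ pB := (yon S).map_injective (by rw [Functor.map_comp, ho']; exact sqR.lift_fst _ _ _)
    have ho₂ : o' ≫ r₂ = s₂ ≫ pB := (yon S).map_injective (by rw [Functor.map_comp, ho']; exact sqR.lift_snd _ _ _)
    have hμsnd : μB ≫ pullback.snd q ((yon S).map gB) = (yon S).map qB := sqXB.lift_snd _ _ eB
    have hsq : s₁ ≫ qB = s₂ ≫ qB := (yon S).map_injective (by
      rw [Functor.map_comp, Functor.map_comp]
      exact (congrArg ((yon S).map s₁ ≫ ·) hμsnd.symm).trans ((Category.assoc _ _ _).symm.trans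
        ((congrArg (· ≫ pullback.snd q ((yon S).map gB)) sqR'.w).trans ((Category.assoc _ _ _).trans
          (congrArg ((yon S).map s₂ ≫ ·) hμsnd)))))
    let ω : R'.left ⟶ pullback b' (Spec.map (CommRingCat.ofHom (algebraMap A B))) :=
      pullback.lift o'.left (s₂.left ≫ qB.left) (by
        change o'.left ≫ r₂.left ≫ kV.left = _
        rw [← Category.assoc, show o'.left ≫ r₂.left = s₂.left ≫ pB.left from congrArg CommaMorphism.left ho₂,
          Category.assoc, Category.assoc]
        exact congrArg (s₂.left ≫ ·) (congrArg CommaMorphism.left sqB.w))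
    have hω₁ : s₁.left ≫ 𝟙 _ = ω ≫ overMap r₁.left h₁ _ := by
      refine (Category.comp_id _).trans (pullback.hom_ext ?_ ?_)
      · rw [Category.assoc, overMap_fst, pullback.lift_fst_assoc]
        have := congrArg CommaMorphism.left ho₁
        simp only [Over.comp_left, hpB] at this
        exact this.symm
      · rw [Category.assoc, overMap_snd, pullback.lift_snd]
        have := congrArg CommaMorphism.left hsq
        simp only [Over.comp_left, hqB] at this ⊢
        exact this
    have hω₂ : s₂.left ≫ 𝟙 _ = ω ≫ overMap r₂.left h₂ _ := by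
      refine (Category.comp_id _).trans (pullback.hom_ext ?_ ?_)
      · rw [Category.assoc, overMap_fst, pullback.lift_fst_assoc]
        have := congrArg CommaMorphism.left ho₂
        simp only [Over.comp_left, hpB] at this
        exact this.symm
      · rw [Category.assoc, overMap_snd, pullback.lift_snd]
        simp only [hqB]
    have := ((hC'.comap (𝟙 _) ω hω₁ hω₂).sat e w).1
    rw [← e₁] at hv
    rw [← e₂]
    exact this hv
  let D' : Fin n → Set (Points XB) := fun e => Points.ofPt μB '' (C' e : Set ↥(pullback a' (Spec.map (CommRingCat.ofHom (algebraMap A B)))))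
  have hD'o : ∀ e, IsOpen (D' e) := fun e => by
    have : (D' e)ᶜ = Points.ofPt μB '' (C' e : Set ↥(pullback a' (Spec.map (CommRingCat.ofHom (algebraMap A B)))))ᶜ := by
      ext x
      obtain ⟨v, rfl⟩ := hμBs x
      constructor
      · exact fun hv => ⟨v, fun hvC => hv ⟨v, hvC, rfl⟩, rfl⟩
      · rintro ⟨v', hv', hvv⟩ ⟨v'', hv'', hvv'⟩
        exact hv' (hsatB e v'' v' hv'' (hvv'.trans hvv.symm))
    exact isClosed_compl_iff.1 (this ▸ hμBc _ (C' e).2.isClosed_compl)
  have hD'd : ∀ e e', e ≠ e' → ∀ x, x ∈ D' e → x ∉ D' e' := by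
    rintro e e' hne _ ⟨v, hv, rfl⟩ ⟨v', hv', hvv⟩
    exact hC'.disj e e' hne v hv (hsatB e' v' v hv' hvv)
  have hD'c : ∀ x, ∃ e, x ∈ D' e := fun x => by
    obtain ⟨v, rfl⟩ := hμBs x
    obtain ⟨e, he⟩ := hC'.cover v
    exact ⟨e, v, he, rfl⟩
  -- images in the neighbourhood
  let qX := pullback.snd q ((yon S).map gB)
  have hqo : IsOpenMap (Points.map qX) := by
    haveI : IsAffine (Over.mk (Spec.map (CommRingCat.ofHom (algebraMap A B)) ≫ sA)).left :=
      inferInstanceAs (IsAffine (Spec _))
    exact (isUnivOpenMor_iff_affine f).1 (isUnivOpenMor_of_flat_lfp hX hY hfl hfp) _ ‹_› aB XB _ _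
      (sqXB.paste_horiz sqX)
  let O : Fin n → Set (Spec (CommRingCat.of B)) := fun e =>
    Points.ofScheme (Over.mk (Spec.map (CommRingCat.ofHom (algebraMap A B)) ≫ sA)) ⁻¹' (Points.map qX '' D' e)
  have hO : IsOpen (⋂ e, O e) :=
    isOpen_iInter_of_finite fun e => (hqo _ (hD'o e)).preimage (Points.continuous_ofPt _)
  refine ⟨Points.ofPt aB '' ⋂ e, O e, isOpenMap_ofPt_of_repWith etale_le_universallyOpen haB _ hO, ?_, ?_⟩
  · let cB : Over.mk (Spec.map (CommRingCat.ofHom (algebraMap A K)) ≫ sA) ⟶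
        Over.mk (Spec.map (CommRingCat.ofHom (algebraMap A B)) ≫ sA) :=
      Over.homMk (Spec.map (CommRingCat.ofHom σ.toRingHom)) (by
        change Spec.map _ ≫ Spec.map _ ≫ sA = Spec.map _ ≫ sA
        rw [← Spec.map_comp_assoc, ← CommRingCat.ofHom_comp]
        congr 3; exact σ.comp_algebraMap)
    have hcB : cB ≫ gB = gK := Over.OverMorphism.ext (by
      change Spec.map _ ≫ Spec.map _ = Spec.map _
      rw [← Spec.map_comp, ← CommRingCat.ofHom_comp]; congr 2; exact σ.comp_algebraMap)
    have eχ : pullback.fst q ((yon S).map gK) ≫ q = (pullback.snd q ((yon S).map gK) ≫ (yon S).map cB) ≫ (yon S).map gB := by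
      rw [Category.assoc, ← Functor.map_comp, hcB]; exact sqk.w
    let χ := sqXB.lift _ _ eχ
    let b₀ : Spec (CommRingCat.of B) := cB.left (IsLocalRing.closedPoint K)
    refine ⟨b₀, Set.mem_iInter.2 fun e => ?_, ?_⟩
    · obtain ⟨x, hx⟩ := hD.nonempty e
      obtain ⟨v, rfl⟩ := hμks x
      obtain ⟨v, rfl⟩ := (Points.schemeEquiv _).surjective v
      change Points.map μk (Points.ofScheme _ v) ∈ D e at hx
      rw [← Points.ofPt_eq_map_ofScheme] at hx
      let βV : bcOver kV K ⟶ bcOver kV B := Over.homMk (baseMap a' cB.left (congrArg CommaMorphism.left hcB)) (by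
        change baseMap _ _ _ ≫ pullback.snd a' (Spec.map (CommRingCat.ofHom (algebraMap A B))) ≫ _ =
          pullback.snd a' (Spec.map (CommRingCat.ofHom (algebraMap A K))) ≫ _
        erw [pullback.lift_snd_assoc, Category.assoc]
        exact congrArg (pullback.snd _ _ ≫ ·) (Over.w cB))
      have hβ : (yon S).map βV ≫ μB = μk ≫ χ := by
        apply sqXB.hom_ext
        · simp only [Category.assoc, sqXB.lift_fst, μB, χ, sqk.lift_fst, μk]
          rw [← Functor.map_comp_assoc]
          refine congrArg (fun j => (yon S).map j ≫ m) (Over.OverMorphism.ext ?_)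
          simp only [Over.comp_left, hpB, hpV, βV, Over.homMk_left]
          exact (pullback.lift_fst _ _ _).trans (Category.comp_id _)
        · simp only [Category.assoc, sqXB.lift_snd, μB, χ, sqk.lift_snd_assoc, μk]
          rw [← Functor.map_comp, ← Functor.map_comp]
          refine congrArg (yon S).map (Over.OverMorphism.ext ?_)
          simp only [Over.comp_left, hqB, hqV, βV, Over.homMk_left]
          exact pullback.lift_snd _ _ _
      refine ⟨Points.map χ (Points.ofPt μk v), ⟨βV.left v, (hpre e).ge hx, ?_⟩, ?_⟩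
      · rw [Points.map_ofPt, ← hβ, ofPt_map]
      · have e' : (μk ≫ χ) ≫ qX = (yon S).map (qV ≫ cB) :=
          (Category.assoc _ _ _).trans ((congrArg (μk ≫ ·) (sqXB.lift_snd _ _ eχ)).trans
            ((Category.assoc _ _ _).symm.trans ((congrArg (· ≫ (yon S).map cB) (sqk.lift_snd _ _ eV)).trans
              (Functor.map_comp _ _ _).symm)))
        rw [Points.map_ofPt, Points.map_ofPt, e', ← Category.comp_id ((yon S).map _), ofPt_map]
        exact congrArg (Points.ofScheme _) (congrArg cB.left (Subsingleton.elim (α := PrimeSpectrum K) _ _))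
    · rw [ofPt_map, ← hat]
      refine congrArg (Points.ofPt a) ?_
      change (cB ≫ gB).left (IsLocalRing.closedPoint K) = p
      rw [hcB]
      exact hgK
  · rintro k ⟨t, ht, hkt⟩ hgeo Z fst snd sq
    obtain ⟨g, hg, hgt⟩ := exists_lift_geometric_point (IsAlgSpace.yon_obj _) (isEtaleMor_of_repWith _ haB) k hgeo
      (Points.ofScheme _ t) (by rw [← Points.ofPt_eq_map_ofScheme]; exact hkt)
    have eψ : fst ≫ f = (snd ≫ g) ≫ aB := by rw [Category.assoc, hg, sq.w]
    let sqY := sqXB.paste_horiz sqX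
    let ψ := sqY.lift fst (snd ≫ g) eψ
    have sqψ : IsPullback ψ snd qX g :=
      IsPullback.of_right (by rw [sqY.lift_fst, hg]; exact sq) (sqY.lift_snd _ _ eψ) sqY
    refine IsOpenPartition.le_card (D := fun e => Points.map ψ ⁻¹' D' e)
      ⟨fun e => (hD'o e).preimage (Points.continuous_map ψ), fun e e' hne x => hD'd e e' hne _, fun x => hD'c _,
        fun e => ?_⟩
    obtain ⟨x, hx, hxt⟩ := Set.mem_iInter.1 ht e
    obtain ⟨z, hz, -⟩ := exists_point_of_isPullback sqψ x (Points.mk (fieldPtOfHom (𝟙 ((yon S).obj k.pt))))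
      (by
        rw [hxt, ← hgt, map_mk_fieldPtOfHom, Category.id_comp, ← Points.ofPt_toHom (fieldPtOfHom g),
          toHom_fieldPtOfHom])
    exact ⟨z, show Points.map ψ z ∈ D' e from hz ▸ hx⟩

end Groth.Agent.H12AlgSp.ConnCount
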