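import Groth.Agent.H9Hens.PtConstruct
import Groth.Agent.H12AlgSp.ConnCount.Descend

/-!
# The spectrum of a colimit of pointed etale algebras is a limit
-/

set_option autoImplicit false
set_option backward.isDefEq.respectTransparency false
set_option linter.style.haveILetI false
universe u

open CategoryTheory CategoryTheory.Limits AlgebraicGeometry Opposite
open Groth.Agent.H9Hens

attribute [local instance] PtEtale.isFiltered

namespace Groth.Agent.H12AlgSp.ConnCount

variable {A k H : Type u} [CommRing A] [CommRing k] [Algebra A k] [CommRing H] [Algebra A H] {π : H →ₐ[A] k}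

/-- The canonical maps to a colimit of pointed etale algebras. -/
noncomputable def ptMap (hH : IsPtColim π) (j : PtEtale A k) : j.ring →ₐ[A] H := (hH.exists_map j.ring j.pt).choose

theorem ptMap_spec (hH : IsPtColim π) (j : PtEtale A k) : π.comp (ptMap hH j) = j.pt :=
  (hH.exists_map j.ring j.pt).choose_spec

theorem ptMap_naturality (hH : IsPtColim π) {i j : PtEtale A k} (f : i ⟶ j) :
    (ptMap hH j).comp f.1 = ptMap hH i :=
  hH.hom_ext (by rw [← AlgHom.comp_assoc, ptMap_spec, ptMap_spec, f.2])

/-- The cocone of pointed etale algebras on their colimit. -/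
noncomputable def ptCocone (hH : IsPtColim π) : Cocone (PtEtale.diagram A k) where
  pt := CommRingCat.of H
  ι := { app := fun j => CommRingCat.ofHom (ptMap hH j).toRingHom
         naturality := fun i j f => CommRingCat.hom_ext (RingHom.ext fun x =>
           DFunLike.congr_fun (ptMap_naturality hH f) x) }

theorem nonempty_isColimit_ptCocone (hH : IsPtColim π) : Nonempty (IsColimit (ptCocone hH)) := by
  haveI : ReflectsColimit (PtEtale.diagram A k) (forget CommRingCat.{u}) :=
    reflectsColimit_of_reflectsIsomorphisms _ _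
  refine ⟨isColimitOfReflects (forget CommRingCat.{u}) (Types.FilteredColimit.isColimitOf' _ _ (fun x => ?_)
    fun j y y' h => ?_)⟩
  · obtain ⟨S, _, _, _, φ, s, hs⟩ := hH.exists_rep (x : H)
    obtain ⟨j, e, he⟩ := PtEtale.exists_equiv S (π.comp φ)
    refine ⟨j, e.symm s, ?_⟩
    have : (ptMap hH j).comp e.symm.toAlgHom = φ := hH.hom_ext (AlgHom.ext fun a => by
      show π (ptMap hH j (e.symm a)) = π (φ a)
      rw [show π (ptMap hH j (e.symm a)) = j.pt (e.symm a) from DFunLike.congr_fun (ptMap_spec hH j) _, he]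
      exact congrArg (π.comp φ) (e.apply_symm_apply a))
    exact hs.symm.trans (DFunLike.congr_fun this s).symm
  · obtain ⟨T, _, _, _, ψ, φT, hcomp, hz⟩ := hH.exists_eq_zero j.ring (ptMap hH j) ((show j.ring from y) - (show j.ring from y'))
      (by rw [map_sub, sub_eq_zero]; exact h)
    obtain ⟨l, e, hl⟩ := PtEtale.exists_equiv T (π.comp φT)
    refine ⟨l, ⟨e.symm.toAlgHom.comp ψ, AlgHom.ext fun a => ?_⟩, ?_⟩
    · show l.pt (e.symm (ψ a)) = j.pt a
      rw [hl, ← DFunLike.congr_fun (ptMap_spec hH j) a, ← hcomp]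
      exact congrArg (π.comp φT) (e.apply_symm_apply (ψ a))
    · show e.symm (ψ y) = e.symm (ψ y')
      rw [map_sub, sub_eq_zero] at hz
      rw [hz]

/-- A saturated finite partition over a colimit of pointed etale algebras comes from an etale algebra. -/
theorem exists_etale_partition (hH : IsPtColim π) {V R : Scheme.{u}} (a : V ⟶ Spec (CommRingCat.of A))
    (b : R ⟶ Spec (CommRingCat.of A)) (r₁ r₂ : R ⟶ V) (h₁ : r₁ ≫ a = b) (h₂ : r₂ ≫ a = b)
    [QuasiCompact a] [QuasiSeparated a] [QuasiCompact b] [QuasiSeparated b] {ι : Type*} [Finite ι]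
    (C : ι → (pullback a (Spec.map (CommRingCat.ofHom (algebraMap A H)))).Opens)
    (hC : IsSatPartition (overMap r₁ h₁ _) (overMap r₂ h₂ _) C) :
    ∃ (B : Type u) (_ : CommRing B) (_ : Algebra A B) (_ : Algebra.Etale A B) (φ : B →ₐ[A] H)
      (C' : ι → (pullback a (Spec.map (CommRingCat.ofHom (algebraMap A B)))).Opens),
      IsSatPartition (overMap r₁ h₁ _) (overMap r₂ h₂ _) C' ∧
        ∀ e, (pullback.map a (Spec.map (CommRingCat.ofHom (algebraMap A H))) a
          (Spec.map (CommRingCat.ofHom (algebraMap A B))) (𝟙 _) (Spec.map (CommRingCat.ofHom φ.toRingHom)) (𝟙 _)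
          (by simp) (by rw [Category.comp_id, ← Spec.map_comp, ← CommRingCat.ofHom_comp]; congr 2; exact φ.comp_algebraMap.symm)) ⁻¹ᵁ
            C' e = C e := by
  obtain ⟨hκ⟩ := nonempty_isColimit_ptCocone hH
  let D : (PtEtale A k)ᵒᵖ ⥤ Scheme.{u} := (PtEtale.diagram A k).op ⋙ Scheme.Spec
  haveI : ∀ i j (f : i ⟶ j), IsAffineHom (D.map f) := fun i j f => inferInstanceAs (IsAffineHom (Spec.map _))
  let c : Cone D := Scheme.Spec.mapCone (ptCocone hH).op
  have hc : IsLimit c := isLimitOfPreserves Scheme.Spec hκ.op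
  let s : D ⟶ (Functor.const (PtEtale A k)ᵒᵖ).obj (Spec (CommRingCat.of A)) :=
    { app := fun j => Spec.map (CommRingCat.ofHom (algebraMap A j.unop.ring))
      naturality := fun i j f => by
        simp only [Functor.const_obj_map]
        refine Eq.trans ?_ (Category.comp_id _).symm
        change Spec.map (CommRingCat.ofHom f.unop.1.toRingHom) ≫ Spec.map _ = _
        rw [← Spec.map_comp, ← CommRingCat.ofHom_comp]
        congr 2
        exact f.unop.1.comp_algebraMap }
  haveI : ∀ j, QuasiCompact (s.app j) := fun j => inferInstanceAs (QuasiCompact (Spec.map _))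
  haveI : ∀ j, QuasiSeparated (s.app j) := fun j => inferInstanceAs (QuasiSeparated (Spec.map _))
  have hs : ∀ j, c.π.app j ≫ s.app j = Spec.map (CommRingCat.ofHom (algebraMap A H)) := fun j => by
    change Spec.map (CommRingCat.ofHom (ptMap hH j.unop).toRingHom) ≫ Spec.map _ = _
    rw [← Spec.map_comp, ← CommRingCat.ofHom_comp]
    congr 2
    exact (ptMap hH j.unop).comp_algebraMap
  haveI : QuasiCompact (Spec.map (CommRingCat.ofHom (algebraMap A H))) := inferInstance
  obtain ⟨j, C', hC', hpre⟩ := exists_stage_partition (D := D) hc s (Spec.map (CommRingCat.ofHom (algebraMap A H))) hs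
    a b r₁ r₂ h₁ h₂ C hC
  exact ⟨j.unop.ring, inferInstance, inferInstance, inferInstance, ptMap hH j.unop, C', hC', hpre⟩

end Groth.Agent.H12AlgSp.ConnCount
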