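import Groth.Agent.H12AlgSp.ConnCount.PtLimit
import Groth.Agent.H12AlgSp.ConnCount.Lift
import Groth.Agent.H19Mult.SepClosedPt
import Groth.Agent.S4622

/-!
# Saturated partitions of a geometric fibre extend to an etale neighbourhood
-/

set_option autoImplicit false
set_option backward.isDefEq.respectTransparency false
set_option linter.style.haveILetI false
universe u

open CategoryTheory CategoryTheory.Limits AlgebraicGeometry
open Groth.Agent.H9Hens

namespace Groth.Agent.H12AlgSp.ConnCount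

theorem IsSatPartition.comap {ι : Type*} {P Q P' Q' : Scheme.{u}} {p₁ p₂ : Q ⟶ P} {q₁ q₂ : Q' ⟶ P'}
    {C : ι → P.Opens} (h : IsSatPartition p₁ p₂ C) (μ : P' ⟶ P) (ν : Q' ⟶ Q) (e₁ : q₁ ≫ μ = ν ≫ p₁)
    (e₂ : q₂ ≫ μ = ν ≫ p₂) : IsSatPartition q₁ q₂ (fun e => μ ⁻¹ᵁ C e) := by
  refine ⟨fun e e' hne x => h.disj e e' hne (μ x), fun x => h.cover (μ x), fun e z => ?_⟩
  show μ (q₁ z) ∈ C e ↔ μ (q₂ z) ∈ C e
  rw [← Scheme.Hom.comp_apply, e₁, ← Scheme.Hom.comp_apply, e₂]
  exact h.sat e (ν z)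

/-- A partition descends along a homeomorphism. -/
theorem IsSatPartition.exists_image {ι : Type*} {P Q P' Q' : Scheme.{u}} {p₁ p₂ : Q ⟶ P} {q₁ q₂ : Q' ⟶ P'}
    {C : ι → P'.Opens} (h : IsSatPartition q₁ q₂ C) (μ : P' ⟶ P) (hμ : IsHomeomorph μ) (ν : Q' ⟶ Q)
    (hν : Function.Surjective ν) (e₁ : q₁ ≫ μ = ν ≫ p₁) (e₂ : q₂ ≫ μ = ν ≫ p₂) :
    ∃ C' : ι → P.Opens, IsSatPartition p₁ p₂ C' ∧ ∀ e, μ ⁻¹ᵁ C' e = C e := by
  have mem : ∀ e x, μ x ∈ μ '' (C e : Set P') ↔ x ∈ C e := fun e x => hμ.injective.mem_set_image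
  refine ⟨fun e => ⟨μ '' (C e : Set P'), hμ.isOpenMap _ (C e).2⟩, ⟨fun e e' hne x hx hx' => ?_, fun x => ?_,
    fun e z => ?_⟩, fun e => TopologicalSpace.Opens.ext (Set.ext fun x => mem e x)⟩
  · obtain ⟨x, rfl⟩ := hμ.surjective x
    exact h.disj e e' hne x ((mem e x).1 hx) ((mem e' x).1 hx')
  · obtain ⟨x, rfl⟩ := hμ.surjective x
    obtain ⟨e, he⟩ := h.cover x
    exact ⟨e, (mem e x).2 he⟩
  · obtain ⟨z, rfl⟩ := hν z
    change p₁ (ν z) ∈ μ '' (C e : Set P') ↔ p₂ (ν z) ∈ μ '' (C e : Set P')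
    rw [← Scheme.Hom.comp_apply, ← e₁, ← Scheme.Hom.comp_apply, ← e₂]
    exact (mem e _).trans ((h.sat e z).trans (mem e _).symm)

variable {V R B B₁ B₂ : Scheme.{u}}

/-- Change of base between two fibre products. -/
noncomputable def baseMap (a : V ⟶ B) {g : B₁ ⟶ B} {g' : B₂ ⟶ B} (φ : B₁ ⟶ B₂) (h : φ ≫ g' = g) :
    pullback a g ⟶ pullback a g' :=
  pullback.map a g a g' (𝟙 V) φ (𝟙 B) (by simp) (by rw [Category.comp_id, h])

theorem overMap_baseMap {a : V ⟶ B} {b : R ⟶ B} (r : R ⟶ V) (hr : r ≫ a = b) {g : B₁ ⟶ B} {g' : B₂ ⟶ B}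
    (φ : B₁ ⟶ B₂) (h : φ ≫ g' = g) :
    overMap r hr g ≫ baseMap a φ h = baseMap b φ h ≫ overMap r hr g' := by
  apply pullback.hom_ext <;> simp [overMap, baseMap]

theorem surjective_baseMap (a : V ⟶ B) {g : B₁ ⟶ B} {g' : B₂ ⟶ B} (φ : B₁ ⟶ B₂) (h : φ ≫ g' = g)
    [Surjective φ] : Function.Surjective (baseMap a φ h) := by
  have sq : IsPullback (baseMap a φ h) (pullback.snd a g) (pullback.snd a g') φ :=
    IsPullback.of_right (h₁₂ := pullback.fst a g') (v₁₃ := a) (h₂₂ := g')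
      (by simpa [baseMap, h] using IsPullback.of_hasPullback a g) (by simp [baseMap]) (IsPullback.of_hasPullback a g')
  exact (MorphismProperty.of_isPullback (P := @Surjective) sq.flip inferInstance : Surjective (baseMap a φ h)).surj

theorem isHomeomorph_baseMap (a : V ⟶ B) {K L : Type u} [Field K] [IsSepClosed K] [Field L] [Algebra K L]
    [IsAlgClosure K L] {g : Spec (CommRingCat.of L) ⟶ B} {g' : Spec (CommRingCat.of K) ⟶ B}
    (h : Spec.map (CommRingCat.ofHom (algebraMap K L)) ≫ g' = g) :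
    IsHomeomorph (baseMap a (Spec.map (CommRingCat.ofHom (algebraMap K L))) h) := by
  let f := pullback.snd a g'
  have hh := (Groth.Agent.S4622.result (k' := L) f (𝟙 _) (𝟙 _) (FBase.bcπ f L) IsPullback.of_id_snd)
  let e : FBase.bc f L ≅ pullback a g :=
    pullbackLeftPullbackSndIso a g' (Spec.map (CommRingCat.ofHom (algebraMap K L))) ≪≫ pullback.congrHom rfl h
  have he : e.hom ≫ baseMap a (Spec.map (CommRingCat.ofHom (algebraMap K L))) h = FBase.bcπ f L := by
    apply pullback.hom_ext <;> simp [e, baseMap, FBase.bcπ, f, pullback.condition]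
  have : baseMap a (Spec.map (CommRingCat.ofHom (algebraMap K L))) h = e.inv ≫ FBase.bcπ f L := by
    rw [← he, Iso.inv_hom_id_assoc]
  rw [this]
  exact hh.comp e.inv.homeomorph.isHomeomorph

/-- A saturated partition of a geometric fibre of proper schemes extends to an etale neighbourhood. -/
theorem exists_etale_nbhd_partition {A : Type u} [CommRing A] (p : PrimeSpectrum A) :
    ∃ (k : Type u) (_ : Field k) (_ : IsAlgClosed k) (_ : Algebra A k), RingHom.ker (algebraMap A k) = p.asIdeal ∧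
      ∀ {V R : Scheme.{u}} (a : V ⟶ Spec (CommRingCat.of A)) (b : R ⟶ Spec (CommRingCat.of A)) [IsProper a]
        [IsProper b] (r₁ r₂ : R ⟶ V) (h₁ : r₁ ≫ a = b) (h₂ : r₂ ≫ a = b) {ι : Type} [Finite ι]
        (C : ι → (pullback a (Spec.map (CommRingCat.ofHom (algebraMap A k)))).Opens),
        IsSatPartition (overMap r₁ h₁ _) (overMap r₂ h₂ _) C →
        ∃ (B' : Type u) (_ : CommRing B') (_ : Algebra A B') (_ : Algebra.Etale A B') (σ : B' →ₐ[A] k)
          (C' : ι → (pullback a (Spec.map (CommRingCat.ofHom (algebraMap A B')))).Opens),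
          IsSatPartition (overMap r₁ h₁ _) (overMap r₂ h₂ _) C' ∧
            ∀ e, baseMap a (g := Spec.map (CommRingCat.ofHom (algebraMap A k)))
              (g' := Spec.map (CommRingCat.ofHom (algebraMap A B'))) (Spec.map (CommRingCat.ofHom σ.toRingHom))
              (by rw [← Spec.map_comp, ← CommRingCat.ofHom_comp]; congr 2; exact σ.comp_algebraMap) ⁻¹ᵁ C' e = C e := by
  let κ := SeparableClosure p.asIdeal.ResidueField
  letI : Algebra A κ := ((algebraMap p.asIdeal.ResidueField κ).comp (algebraMap A p.asIdeal.ResidueField)).toAlgebra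
  haveI : IsScalarTower A p.asIdeal.ResidueField κ := IsScalarTower.of_algebraMap_eq fun _ => rfl
  let k := AlgebraicClosure κ
  letI : Algebra A k := ((algebraMap κ k).comp (algebraMap A κ)).toAlgebra
  haveI : IsScalarTower A κ k := IsScalarTower.of_algebraMap_eq fun _ => rfl
  haveI : IsSepClosed κ := inferInstance
  refine ⟨k, inferInstance, inferInstance, inferInstance, ?_, ?_⟩
  · change RingHom.ker ((algebraMap κ k).comp ((algebraMap p.asIdeal.ResidueField κ).comp
      (algebraMap A p.asIdeal.ResidueField))) = _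
    rw [RingHom.ker_comp_of_injective _ (algebraMap κ k).injective,
      RingHom.ker_comp_of_injective _ (algebraMap p.asIdeal.ResidueField κ).injective,
      Ideal.ker_algebraMap_residueField]
  intro V R a b _ _ r₁ r₂ h₁ h₂ ι _ C hC
  -- over the separable closure
  have hk : Spec.map (CommRingCat.ofHom (algebraMap κ k)) ≫ Spec.map (CommRingCat.ofHom (algebraMap A κ)) =
      Spec.map (CommRingCat.ofHom (algebraMap A k)) := by
    rw [← Spec.map_comp, ← CommRingCat.ofHom_comp]; rfl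
  obtain ⟨Cs, hCs, hCsC⟩ := hC.exists_image (baseMap a _ hk) (isHomeomorph_baseMap a hk) (baseMap b _ hk)
    (surjective_baseMap b _ hk) (overMap_baseMap r₁ h₁ _ hk) (overMap_baseMap r₂ h₂ _ hk)
  -- over the strict henselization
  obtain ⟨H, _, _, π, hπ⟩ := exists_isPtColim (A := A) (k := κ)
  have hπs : Function.Surjective π := Groth.Agent.H19Mult.surjective_of_isPtColim p.asIdeal hπ
  haveI : HenselianRing H (RingHom.ker π.toRingHom) := hπ.henselianRing
  let gH := Spec.map (CommRingCat.ofHom (algebraMap A H))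
  let sκ : Spec (CommRingCat.of κ) ⟶ Spec (CommRingCat.of H) := Spec.map (CommRingCat.ofHom π.toRingHom)
  have hsκ : sκ ≫ gH = Spec.map (CommRingCat.ofHom (algebraMap A κ)) := by
    rw [← Spec.map_comp, ← CommRingCat.ofHom_comp]; congr 2; exact π.comp_algebraMap
  let ψ : ∀ {W : Scheme.{u}} (c : W ⟶ Spec (CommRingCat.of A)),
      pullback (pullback.snd c gH) sκ ⟶ pullback c (Spec.map (CommRingCat.ofHom (algebraMap A κ))) :=
    fun c => (pullbackLeftPullbackSndIso c gH sκ ≪≫ pullback.congrHom rfl hsκ).hom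
  have hψ : ∀ {W : Scheme.{u}} (c : W ⟶ Spec (CommRingCat.of A)),
      ψ c ≫ baseMap c sκ hsκ = pullback.fst (pullback.snd c gH) sκ := by
    intro W c
    apply pullback.hom_ext <;> simp [ψ, baseMap, pullback.condition]
  have h₁' : overMap r₁ h₁ gH ≫ pullback.snd a gH = pullback.snd b gH := by simp [overMap]
  have h₂' : overMap r₂ h₂ gH ≫ pullback.snd a gH = pullback.snd b gH := by simp [overMap]
  have hψ₁ : overMap (overMap r₁ h₁ gH) h₁' sκ ≫ ψ a = ψ b ≫ overMap r₁ h₁ _ := by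
    apply pullback.hom_ext <;> simp [ψ, overMap]
  have hψ₂ : overMap (overMap r₂ h₂ gH) h₂' sκ ≫ ψ a = ψ b ≫ overMap r₂ h₂ _ := by
    apply pullback.hom_ext <;> simp [ψ, overMap]
  obtain ⟨CH, hCH, hCHC⟩ := exists_partition_lift π.toRingHom hπs (pullback.snd a gH) (pullback.snd b gH)
    (overMap r₁ h₁ gH) (overMap r₂ h₂ gH) h₁' h₂' (fun e => ψ a ⁻¹ᵁ Cs e) (hCs.comap (ψ a) (ψ b) hψ₁ hψ₂)
  -- descend to an etale algebra
  obtain ⟨B', _, _, _, φ, C', hC', hpre⟩ := exists_etale_partition hπ a b r₁ r₂ h₁ h₂ CH hCH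
  refine ⟨B', inferInstance, inferInstance, inferInstance, (IsScalarTower.toAlgHom A κ k).comp (π.comp φ), C', hC',
    fun e => ?_⟩
  have hκ : baseMap a sκ hsκ ⁻¹ᵁ CH e = Cs e := by
    refine TopologicalSpace.Opens.ext (Set.ext fun z => ?_)
    obtain ⟨z, rfl⟩ := (ψ a).surjective z
    change baseMap a sκ hsκ (ψ a z) ∈ CH e ↔ ψ a z ∈ Cs e
    rw [← Scheme.Hom.comp_apply, hψ]
    exact ⟨fun h => (hCHC e).le h, fun h => (hCHC e).ge h⟩
  rw [← hCsC e, ← hκ, ← hpre e, ← Scheme.Hom.comp_preimage, ← Scheme.Hom.comp_preimage]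
  refine congrArg (fun m => m ⁻¹ᵁ C' e) ?_
  apply pullback.hom_ext
  · simp only [baseMap, pullback.map, Category.assoc, Category.comp_id, pullback.lift_fst, pullback.lift_fst_assoc]
    erw [pullback.lift_fst, pullback.lift_fst]
  · simp only [baseMap, pullback.map, Category.assoc, Category.comp_id, pullback.lift_snd, pullback.lift_snd_assoc]
    erw [pullback.lift_snd_assoc]
    simp only [Category.assoc]
    erw [pullback.lift_snd_assoc]
    simp only [Category.assoc]
    refine congrArg (pullback.snd _ _ ≫ ·) ?_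
    rw [← Spec.map_comp, ← Spec.map_comp, ← CommRingCat.ofHom_comp, ← CommRingCat.ofHom_comp]
    rfl

end Groth.Agent.H12AlgSp.ConnCount
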